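import Mathlib
import Groth.Prelude.Def_EtRam
import Groth.Agent.Lib.Helper9.EtaleLocalDVR
import Groth.Agent.Lib.Helper9.Kummer
import Groth.Agent.Lib.Helper9.SepRes
import Groth.Agent.Lib.Helper9.TameBase

/-!
# An integral étale algebra over a DVR generates unramified extensions (helper9)
-/

universe u

open IsLocalRing EtRam

namespace Groth.Agent.Lib.Helper9.AbhSch

open Groth.Agent.Lib.Helper9

set_option maxHeartbeats 2000000 in
/-- Let `B` be a DVR, `C` an integral étale `B`-algebra and `ψ : C → L` a ring map to a field whose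
image generates `L`.  Then `L` is unramified over `B`. -/
theorem unram_of_etale (B C : Type u) [CommRing B] [IsDomain B] [IsDiscreteValuationRing B]
    [CommRing C] [Algebra B C] [Algebra.Etale B C] [Algebra.IsIntegral B C]
    {L : Type u} [Field L] (g : B →+* L) (hg : Function.Injective g) (ψ : C →+* L)
    (hψ : ∀ b, ψ (algebraMap B C b) = g b)
    (hgen : ∀ E : Subfield L, (∀ c, ψ c ∈ E) → E = ⊤) :
    IsUnramifiedExt B g := by
  classical
  intro V hdom hloc
  letI algBV : Algebra B V := (RingHom.codRestrict g V hdom.1).toAlgebra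
  show IsWeaklyUnramified B V ∧ Algebra.IsSeparable (ResidueField B) (ResidueField V)
  obtain ⟨ιV, hιV⟩ : ∃ ιV : B →+* V, ιV = RingHom.codRestrict g V hdom.1 := ⟨_, rfl⟩
  have hιVg : ∀ a, ((ιV a : V) : L) = g a := by
    intro a
    rw [hιV]
    rfl
  have halg : algebraMap B V = ιV := by
    rw [hιV]
    rfl
  haveI hlocι : IsLocalHom ιV := by
    rw [← halg]
    exact hloc
  have hιinj : Function.Injective ιV := by
    intro a b hab
    apply hg
    rw [← hιVg, ← hιVg, hab]
  -- the image of `C` lies in `V`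
  have hmem : ∀ c : C, ψ c ∈ V := by
    intro c
    obtain ⟨p, hpm, hp⟩ := Algebra.IsIntegral.isIntegral (R := B) c
    have h1 : IsIntegral V (ψ c) := by
      refine ⟨p.map ιV, hpm.map ιV, ?_⟩
      rw [Polynomial.eval₂_map]
      have h2 : (algebraMap V L).comp ιV = ψ.comp (algebraMap B C) := by
        ext b
        rw [RingHom.comp_apply, RingHom.comp_apply, hψ]
        exact hιVg b
      rw [h2, ← Polynomial.hom_eval₂, hp, map_zero]
    obtain ⟨y, hy⟩ := IsIntegrallyClosed.isIntegral_iff.mp h1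
    rw [← hy]
    exact y.2
  obtain ⟨φ, hφ⟩ : ∃ φ : C →+* V, φ = RingHom.codRestrict ψ V hmem := ⟨_, rfl⟩
  have hφψ : ∀ c, ((φ c : V) : L) = ψ c := by
    intro c
    rw [hφ]
    rfl
  have hφC : ∀ v, φ (algebraMap B C v) = ιV v := by
    intro v
    apply Subtype.ext
    rw [hφψ, hψ, hιVg]
  obtain ⟨ϖ, hϖ⟩ := IsDiscreteValuationRing.exists_irreducible B
  obtain ⟨D, instD1, instD2, instD3, instD4, instD5, instD6, χ, instD7, instD8, hϖD, hsepD, hχinj,
      hχ, -⟩ := EtaleLocalDVR.exists_local_dvr B C V ιV hιinj φ hφC hϖ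
  have hχA : ∀ v : B, χ (algebraMap B D v) = ιV v := by
    intro v
    rw [IsScalarTower.algebraMap_apply B C D, hχ, hφC]
  have hz : ((χ (algebraMap B D ϖ) : V) : L) ^ (1 * 1) = ((χ ((1 : Dˣ) : D) : V) : L) *
      ((χ (algebraMap B D ϖ) : V) : L) ^ (1 * 1) := by
    rw [Units.val_one, map_one]
    exact (one_mul _).symm
  have hgenD : ∀ E : Subfield L, (∀ d, ((χ d : V) : L) ∈ E) →
      ((χ (algebraMap B D ϖ) : V) : L) ∈ E → E = ⊤ := by
    intro E hE1 _
    apply hgen
    intro c
    rw [← hφψ, ← hχ]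
    exact hE1 _
  obtain ⟨hdvrV, hsepχ, τ, y₁, y₂, hτ, hτpow, -⟩ :=
    Kummer.kummer_structure D V χ hχinj hϖD (1 : Dˣ) ((χ (algebraMap B D ϖ) : V) : L) 1 1 1
      one_pos one_pos one_pos (Nat.coprime_one_right _)
      (by rw [Nat.cast_one]; exact one_ne_zero) hz hgenD
  haveI := hdvrV
  have hcomp : χ.comp (algebraMap B D) = algebraMap B V := by
    rw [halg]
    exact RingHom.ext hχA
  constructor
  · show (maximalIdeal B).map (algebraMap B V) = maximalIdeal V
    rw [hϖ.maximalIdeal_eq, Ideal.map_span, Set.image_singleton, halg, ← hχA, hτpow, pow_one,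
      hτ.maximalIdeal_eq]
    exact Ideal.span_singleton_eq_span_singleton.mpr
      (associated_unit_mul_left τ (y₁ : V) y₁.isUnit)
  · rw [← SepRes.iff_isSeparable]
    exact Kummer.SepRes.congr hcomp (hsepD.comp _ _ hsepχ)

set_option maxHeartbeats 2000000 in
/-- Same hypotheses as `unram_of_etale`; `L` is tamely ramified over `B`. -/
theorem tame_of_etale (B C : Type u) [CommRing B] [IsDomain B] [IsDiscreteValuationRing B]
    [CommRing C] [Algebra B C] [Algebra.Etale B C] [Algebra.IsIntegral B C]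
    {L : Type u} [Field L] (g : B →+* L) (hg : Function.Injective g) (ψ : C →+* L)
    (hψ : ∀ b, ψ (algebraMap B C b) = g b)
    (hgen : ∀ E : Subfield L, (∀ c, ψ c ∈ E) → E = ⊤) :
    IsTamelyRamified B g := by
  classical
  intro V hdom hloc
  letI algBV : Algebra B V := (RingHom.codRestrict g V hdom.1).toAlgebra
  show Algebra.IsSeparable (ResidueField B) (ResidueField V) ∧
    ∀ p : ℕ, p.Prime → CharP (ResidueField B) p →
      ¬ p ∣ Ideal.ramificationIdx' (maximalIdeal B) (maximalIdeal V)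
  obtain ⟨ιV, hιV⟩ : ∃ ιV : B →+* V, ιV = RingHom.codRestrict g V hdom.1 := ⟨_, rfl⟩
  have hιVg : ∀ a, ((ιV a : V) : L) = g a := by
    intro a
    rw [hιV]
    rfl
  have halg : algebraMap B V = ιV := by
    rw [hιV]
    rfl
  haveI hlocι : IsLocalHom ιV := by
    rw [← halg]
    exact hloc
  have hιinj : Function.Injective ιV := by
    intro a b hab
    apply hg
    rw [← hιVg, ← hιVg, hab]
  -- the image of `C` lies in `V`
  have hmem : ∀ c : C, ψ c ∈ V := by
    intro c
    obtain ⟨p, hpm, hp⟩ := Algebra.IsIntegral.isIntegral (R := B) c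
    have h1 : IsIntegral V (ψ c) := by
      refine ⟨p.map ιV, hpm.map ιV, ?_⟩
      rw [Polynomial.eval₂_map]
      have h2 : (algebraMap V L).comp ιV = ψ.comp (algebraMap B C) := by
        ext b
        rw [RingHom.comp_apply, RingHom.comp_apply, hψ]
        exact hιVg b
      rw [h2, ← Polynomial.hom_eval₂, hp, map_zero]
    obtain ⟨y, hy⟩ := IsIntegrallyClosed.isIntegral_iff.mp h1
    rw [← hy]
    exact y.2
  obtain ⟨φ, hφ⟩ : ∃ φ : C →+* V, φ = RingHom.codRestrict ψ V hmem := ⟨_, rfl⟩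
  have hφψ : ∀ c, ((φ c : V) : L) = ψ c := by
    intro c
    rw [hφ]
    rfl
  have hφC : ∀ v, φ (algebraMap B C v) = ιV v := by
    intro v
    apply Subtype.ext
    rw [hφψ, hψ, hιVg]
  obtain ⟨ϖ, hϖ⟩ := IsDiscreteValuationRing.exists_irreducible B
  obtain ⟨D, instD1, instD2, instD3, instD4, instD5, instD6, χ, instD7, instD8, hϖD, hsepD, hχinj,
      hχ, -⟩ := EtaleLocalDVR.exists_local_dvr B C V ιV hιinj φ hφC hϖ
  have hχA : ∀ v : B, χ (algebraMap B D v) = ιV v := by
    intro v
    rw [IsScalarTower.algebraMap_apply B C D, hχ, hφC]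
  have hz : ((χ (algebraMap B D ϖ) : V) : L) ^ (1 * 1) = ((χ ((1 : Dˣ) : D) : V) : L) *
      ((χ (algebraMap B D ϖ) : V) : L) ^ (1 * 1) := by
    rw [Units.val_one, map_one]
    exact (one_mul _).symm
  have hgenD : ∀ E : Subfield L, (∀ d, ((χ d : V) : L) ∈ E) →
      ((χ (algebraMap B D ϖ) : V) : L) ∈ E → E = ⊤ := by
    intro E hE1 _
    apply hgen
    intro c
    rw [← hφψ, ← hχ]
    exact hE1 _
  obtain ⟨hdvrV, hsepχ, τ, y₁, y₂, hτ, hτpow, -⟩ :=
    Kummer.kummer_structure D V χ hχinj hϖD (1 : Dˣ) ((χ (algebraMap B D ϖ) : V) : L) 1 1 1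
      one_pos one_pos one_pos (Nat.coprime_one_right _)
      (by rw [Nat.cast_one]; exact one_ne_zero) hz hgenD
  haveI := hdvrV
  have hcomp : χ.comp (algebraMap B D) = algebraMap B V := by
    rw [halg]
    exact RingHom.ext hχA
  have hinjBV : Function.Injective (algebraMap B V) := by
    rw [halg]
    exact hιinj
  constructor
  · rw [← SepRes.iff_isSeparable]
    exact Kummer.SepRes.congr hcomp (hsepD.comp _ _ hsepχ)
  · intro p hp _ hdvd
    obtain ⟨he0, w, hw⟩ := TameBase.exists_eq_unit_mul_pow (A := B) (V := V) hinjBV hϖ hτ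
    have h1 : (w : V) * τ ^ (Ideal.ramificationIdx' (maximalIdeal B) (maximalIdeal V)) =
        y₁ * τ ^ 1 := by
      rw [← hw, ← hτpow, hχA, halg]
    have h2 := IsDiscreteValuationRing.unit_mul_pow_congr_pow hτ hτ w y₁ _ _ h1
    rw [h2] at hdvd
    exact hp.one_lt.ne' (Nat.dvd_one.mp hdvd)


end Groth.Agent.Lib.Helper9.AbhSch
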