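import Mathlib
import Groth.Prelude.Def_EtRam
import Groth.Agent.Lib.Helper9.AbhSch.UnramEtale

/-!
# Base change of a finite étale domain to a DVR / a field inside its fraction field (helper9)
-/

universe u

open IsLocalRing EtRam TensorProduct

namespace Groth.Agent.Lib.Helper9.AbhSch

section Tensor

variable (R E L B : Type u) [CommRing R] [CommRing E] [IsDomain E] [Field L] [Algebra R E]
  [Algebra E L] [Algebra R L] [IsScalarTower R E L] [IsFractionRing E L] [CommRing B] [Algebra R B]
  [Algebra B L] [IsScalarTower R B L]

/-- the canonical map `B ⊗[R] E → L`. -/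
noncomputable def tensorLift : B ⊗[R] E →ₐ[B] L :=
  Algebra.TensorProduct.lift (Algebra.ofId B L) (IsScalarTower.toAlgHom R E L)
    (fun _ _ => mul_comm _ _)

theorem tensorLift_left (b : B) : tensorLift R E L B (b ⊗ₜ 1) = algebraMap B L b := by
  simp [tensorLift, Algebra.ofId_apply]

theorem tensorLift_right (e : E) : tensorLift R E L B (1 ⊗ₜ e) = algebraMap E L e := by
  simp [tensorLift]

theorem eq_top_of_range_tensorLift_le (F : Subfield L)
    (h : ∀ c, tensorLift R E L B c ∈ F) : F = ⊤ := by
  rw [eq_top_iff]
  intro x _
  obtain ⟨a, b, -, rfl⟩ := IsFractionRing.div_surjective (A := E) x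
  refine div_mem ?_ ?_
  · rw [← tensorLift_right R E L B]
    exact h _
  · rw [← tensorLift_right R E L B]
    exact h _

theorem unram_tensor [IsDomain B] [IsDiscreteValuationRing B] [Module.Finite R E]
    [Algebra.Etale R E] (hinj : Function.Injective (algebraMap B L)) :
    IsUnramifiedExt B (algebraMap B L) := by
  haveI : Algebra.Etale B (B ⊗[R] E) := inferInstance
  haveI : Module.Finite B (B ⊗[R] E) := inferInstance
  haveI : Algebra.IsIntegral B (B ⊗[R] E) := Algebra.IsIntegral.of_finite _ _
  refine unram_of_etale B (B ⊗[R] E) (algebraMap B L) hinj (tensorLift R E L B).toRingHom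
    (fun b => ?_) (fun F hF => eq_top_of_range_tensorLift_le R E L B F hF)
  exact (tensorLift R E L B).commutes b

end Tensor

section Field

variable (R E L K : Type u) [CommRing R] [CommRing E] [IsDomain E] [Field L] [Algebra R E]
  [Algebra E L] [Algebra R L] [IsScalarTower R E L] [IsFractionRing E L] [Field K] [Algebra R K]
  [Algebra K L] [IsScalarTower R K L]

set_option maxHeartbeats 1000000 in
theorem finsep_tensor [Module.Finite R E] [Algebra.Etale R E] :
    FiniteDimensional K L ∧ Algebra.IsSeparable K L := by
  classical
  obtain ⟨ψ, hψ⟩ : ∃ ψ : K ⊗[R] E →ₐ[K] L, ψ = tensorLift R E L K := ⟨_, rfl⟩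
  haveI : Module.Finite K (K ⊗[R] E) := inferInstance
  haveI hfinr : Module.Finite K ψ.range :=
    Module.Finite.of_surjective ψ.rangeRestrict.toLinearMap ψ.rangeRestrict_surjective
  haveI : IsArtinianRing ψ.range := IsArtinianRing.of_finite K _
  have hfield : IsField ψ.range := IsArtinianRing.isField_of_isDomain _
  let F : Subfield L :=
    { ψ.range.toSubring with
      inv_mem' := by
        intro x hx
        by_cases hx0 : x = 0
        · rw [hx0, inv_zero]
          exact ψ.range.zero_mem
        · obtain ⟨y, hy⟩ := hfield.mul_inv_cancel (a := ⟨x, hx⟩)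
            (fun h => hx0 (congrArg Subtype.val h))
          have h1 : x * (y : L) = 1 := congrArg Subtype.val hy
          have h2 : x⁻¹ = (y : L) := inv_eq_of_mul_eq_one_right h1
          rw [h2]
          exact y.2 }
  have hF : F = ⊤ := by
    apply eq_top_of_range_tensorLift_le R E L K
    intro c
    exact ⟨c, by rw [hψ]; rfl⟩
  have hsurj : Function.Surjective ψ := by
    intro x
    have hx : x ∈ F := by rw [hF]; trivial
    exact hx
  haveI : Algebra.Etale K (K ⊗[R] E) := inferInstance
  haveI : Algebra.FormallyUnramified K (K ⊗[R] E) := inferInstance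
  haveI : Algebra.FormallyUnramified K L := Algebra.FormallyUnramified.of_surjective ψ hsurj
  haveI hfd : Module.Finite K L := Module.Finite.of_surjective ψ.toLinearMap hsurj
  exact ⟨hfd, Algebra.FormallyUnramified.isSeparable K L⟩

end Field

end Groth.Agent.Lib.Helper9.AbhSch
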