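import Mathlib
import Groth.Prelude.Def_EtRam
import Groth.Prelude.Def_SGA1
import Groth.Agent.Lib.Helper9.AbhSch.TensorLift
import Groth.Agent.Lib.Helper9.AbhAbs.Good

/-!
# The fraction field of a finite étale domain over `A[1/f]` is a good extension (helper9)
-/

universe u

open IsLocalRing EtRam TensorProduct

namespace Groth.Agent.Lib.Helper9.AbhSch

open Groth.Agent.Lib.Helper9.AbhAbs

section Setup

variable (A : Type u) [CommRing A] [IsDomain A] (F : A)
  (Aloc : Type u) [CommRing Aloc] [Algebra A Aloc] [IsLocalization.Away F Aloc]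
  (E : Type u) [CommRing E] [IsDomain E] [Algebra A E] [Algebra Aloc E] [IsScalarTower A Aloc E]
  (L : Type u) [Field L] [Algebra E L] [IsFractionRing E L] [Algebra A L] [IsScalarTower A E L]
  [Algebra Aloc L] [IsScalarTower Aloc E L]

include F E in
theorem isScalarTower_A_Aloc_L : IsScalarTower A Aloc L := by
  apply IsScalarTower.of_algebraMap_eq
  intro a
  rw [IsScalarTower.algebraMap_apply A E L, IsScalarTower.algebraMap_apply Aloc E L,
    ← IsScalarTower.algebraMap_apply A Aloc E]

/-- an `A`-algebra in which `F` is invertible, mapping to `L`, is an `Aloc`-algebra over `L`. -/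
theorem exists_algebra_of_isUnit [IsScalarTower A Aloc L] (B' : Type u) [CommRing B']
    [Algebra A B'] [Algebra B' L]
    [IsScalarTower A B' L] (hu : IsUnit (algebraMap A B' F)) :
    ∃ (_ : Algebra Aloc B'), IsScalarTower A Aloc B' ∧ IsScalarTower Aloc B' L := by
  letI alg : Algebra Aloc B' := (IsLocalization.Away.lift F (g := algebraMap A B') hu).toAlgebra
  have h1 : IsScalarTower A Aloc B' :=
    IsScalarTower.of_algebraMap_eq (fun a => (IsLocalization.Away.lift_eq F hu a).symm)
  refine ⟨alg, h1, ?_⟩
  apply IsScalarTower.of_algebraMap_eq'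
  apply IsLocalization.ringHom_ext (Submonoid.powers F)
  ext a
  rw [RingHom.comp_apply, RingHom.comp_apply, RingHom.comp_apply,
    ← IsScalarTower.algebraMap_apply A Aloc L,
    ← IsScalarTower.algebraMap_apply A Aloc B', ← IsScalarTower.algebraMap_apply A B' L]

end Setup

section Inj

variable (A : Type u) [CommRing A] [IsDomain A] (F : A) (hF : F ≠ 0)
  (Aloc : Type u) [CommRing Aloc] [Algebra A Aloc] [IsLocalization.Away F Aloc]
  (E : Type u) [CommRing E] [IsDomain E] [Algebra Aloc E] [Module.Flat Aloc E]

include hF in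
theorem isDomain_Aloc : IsDomain Aloc :=
  IsLocalization.isDomain_of_le_nonZeroDivisors (M := Submonoid.powers F) Aloc
    (powers_le_nonZeroDivisors_of_noZeroDivisors hF)

include hF in
theorem algebraMap_Aloc_injective : Function.Injective (algebraMap A Aloc) :=
  IsLocalization.injective Aloc (powers_le_nonZeroDivisors_of_noZeroDivisors hF)

include hF in
theorem algebraMap_Aloc_E_injective : Function.Injective (algebraMap Aloc E) := by
  haveI : IsDomain Aloc := isDomain_Aloc A F hF Aloc
  rw [injective_iff_map_eq_zero]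
  intro a ha
  by_contra ha0
  have hreg : IsSMulRegular E a :=
    Module.Flat.isSMulRegular_of_nonZeroDivisors (mem_nonZeroDivisors_of_ne_zero ha0)
  have h1 : a • (1 : E) = a • (0 : E) := by
    rw [smul_zero, Algebra.smul_def, mul_one, ha]
  exact one_ne_zero (hreg h1)

end Inj

section Good

variable (A : Type u) [CommRing A] [IsRegularLocalRing A] [IsDomain A] {r : ℕ} (f : Fin r → A)
  (hF : (∏ i, f i) ≠ 0)
  (Aloc : Type u) [CommRing Aloc] [Algebra A Aloc] [IsLocalization.Away (∏ i, f i) Aloc]
  (E : Type u) [CommRing E] [IsDomain E] [Algebra A E] [Algebra Aloc E] [IsScalarTower A Aloc E]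
  [Module.Finite Aloc E] [Algebra.Etale Aloc E]
  (L : Type u) [Field L] [Algebra E L] [IsFractionRing E L] [Algebra A L] [IsScalarTower A E L]

include hF Aloc E in
theorem faithfulSMul_A_L : FaithfulSMul A L := by
  rw [faithfulSMul_iff_algebraMap_injective]
  rw [IsScalarTower.algebraMap_eq A E L, IsScalarTower.algebraMap_eq A Aloc E]
  exact (IsFractionRing.injective E L).comp
    ((algebraMap_Aloc_E_injective A _ hF Aloc E).comp (algebraMap_Aloc_injective A _ hF Aloc))

include hF Aloc E in
set_option maxHeartbeats 1000000 in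
theorem good_of_etale [FaithfulSMul A L]
    (htame : ∀ (i : Fin r) [(Ideal.span ({f i} : Set A)).IsPrime],
      IsTamelyRamified (Localization.AtPrime (Ideal.span ({f i} : Set A)))
        (locLift A L (Ideal.span ({f i} : Set A)))) :
    Good A f L := by
  classical
  letI algAlocL : Algebra Aloc L := ((algebraMap E L).comp (algebraMap Aloc E)).toAlgebra
  haveI t1 : IsScalarTower Aloc E L := IsScalarTower.of_algebraMap_eq (fun _ => rfl)
  haveI t2 : IsScalarTower A Aloc L := isScalarTower_A_Aloc_L A (∏ i, f i) Aloc E L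
  have hfs : letI := FractionRing.liftAlgebra A L
      FiniteDimensional (FractionRing A) L ∧ Algebra.IsSeparable (FractionRing A) L := by
    letI := FractionRing.liftAlgebra A L
    haveI : IsScalarTower A (FractionRing A) L := FractionRing.isScalarTower_liftAlgebra A L
    have hu : IsUnit (algebraMap A (FractionRing A) (∏ i, f i)) := by
      rw [isUnit_iff_ne_zero, Ne, map_eq_zero_iff _ (IsFractionRing.injective A (FractionRing A))]
      exact hF
    obtain ⟨inst, h1, h2⟩ := exists_algebra_of_isUnit A (∏ i, f i) Aloc L (FractionRing A) hu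
    exact finsep_tensor Aloc E L (FractionRing A)
  refine ⟨hfs.1, hfs.2, ?_, htame⟩
  intro 𝔭 _ h𝔭 hF𝔭
  haveI := isDVR_of_height_eq_one A 𝔭 h𝔭
  letI algBL : Algebra (Localization.AtPrime 𝔭) L := (locLift A L 𝔭).toAlgebra
  haveI : IsScalarTower A (Localization.AtPrime 𝔭) L :=
    IsScalarTower.of_algebraMap_eq (fun a => (locLift_algebraMap A L 𝔭 a).symm)
  obtain ⟨inst, h1, h2⟩ := exists_algebra_of_isUnit A (∏ i, f i) Aloc L (Localization.AtPrime 𝔭)
    (IsLocalization.map_units (Localization.AtPrime 𝔭) (⟨_, hF𝔭⟩ : 𝔭.primeCompl))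
  exact unram_tensor Aloc E L (Localization.AtPrime 𝔭) (locLift_injective A L 𝔭)

end Good

end Groth.Agent.Lib.Helper9.AbhSch
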