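import Mathlib
import Groth.Prelude.Def_EtRam
import Groth.Prelude.Def_SGA1
import Groth.Agent.Lib.Helper9.AbhAbs.Ctx
import Groth.Agent.Lib.Helper9.KummerTame.Main

/-!
# The residue field at the zero ideal of a domain (helper9)
-/

universe u

open IsLocalRing EtRam

namespace Groth.Agent.Lib.Helper9.AbhSch

open Groth.Agent.Lib.Helper9.AbhAbs Groth.Agent.Lib.Helper9.KummerTame

section ResField

variable (E : Type u) [CommRing E] [IsDomain E]

instance : (⊥ : Ideal E).IsPrime := Ideal.isPrime_bot

theorem algebraMap_botResidueField_injective :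
    Function.Injective (algebraMap E (⊥ : Ideal E).ResidueField) := by
  rw [injective_iff_map_eq_zero]
  intro a ha
  rw [← RingHom.mem_ker, Ideal.ker_algebraMap_residueField] at ha
  exact ha

instance faithfulSMul_botResidueField : FaithfulSMul E (⊥ : Ideal E).ResidueField :=
  (faithfulSMul_iff_algebraMap_injective _ _).mpr (algebraMap_botResidueField_injective E)

instance isFractionRing_botResidueField : IsFractionRing E (⊥ : Ideal E).ResidueField := by
  apply IsFractionRing.of_field
  intro z
  obtain ⟨x, rfl⟩ := IsLocalRing.residue_surjective z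
  obtain ⟨a, s, rfl⟩ := IsLocalization.exists_mk'_eq (⊥ : Ideal E).primeCompl x
  refine ⟨a, (s : E), ?_⟩
  have hs : algebraMap E (⊥ : Ideal E).ResidueField (s : E) ≠ 0 := by
    rw [Ne, map_eq_zero_iff _ (algebraMap_botResidueField_injective E)]
    intro h0
    exact s.2 (by rw [h0]; exact Ideal.zero_mem _)
  rw [eq_div_iff hs]
  have h1 : ∀ e : E, algebraMap E (⊥ : Ideal E).ResidueField e =
      residue (Localization.AtPrime (⊥ : Ideal E)) (algebraMap E _ e) := fun e => rfl
  rw [h1, h1, ← map_mul, IsLocalization.mk'_spec]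

end ResField

section Tame

variable (A : Type u) [CommRing A] [IsDomain A] (E : Type u) [CommRing E] [IsDomain E]
  [Algebra A E] [Algebra A (⊥ : Ideal E).ResidueField]
  [IsScalarTower A E (⊥ : Ideal E).ResidueField] [FaithfulSMul A (⊥ : Ideal E).ResidueField]

theorem comap_bot_eq_bot : Ideal.comap (algebraMap A E) (⊥ : Ideal E) = ⊥ := by
  have hinj : Function.Injective (algebraMap A E) := by
    have h1 := FaithfulSMul.algebraMap_injective A (⊥ : Ideal E).ResidueField
    rw [IsScalarTower.algebraMap_eq A E (⊥ : Ideal E).ResidueField, RingHom.coe_comp] at h1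
    exact Function.Injective.of_comp h1
  rw [eq_bot_iff]
  intro a ha
  rw [Ideal.mem_comap, Ideal.mem_bot] at ha
  rw [Ideal.mem_bot]
  exact hinj (by rw [ha, map_zero])

theorem genericResidueMap_eq_locLift (P : Ideal A) [P.IsPrime] :
    SGA1.genericResidueMap (algebraMap A E) P (⊥ : Ideal E) (comap_bot_eq_bot A E) =
      locLift A (⊥ : Ideal E).ResidueField P := by
  apply locRingHom_ext A P
  intro a
  rw [genericResidueMap_algebraMap, locLift_algebraMap,
    ← IsScalarTower.algebraMap_apply A E (⊥ : Ideal E).ResidueField]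

theorem tame_of_isTameAlong {r : ℕ} (f : Fin r → A) [∀ i, (Ideal.span {f i}).IsPrime]
    (htame : SGA1.IsTameAlong f (algebraMap A E)) (i : Fin r) :
    IsTamelyRamified (Localization.AtPrime (Ideal.span ({f i} : Set A)))
      (locLift A (⊥ : Ideal E).ResidueField (Ideal.span ({f i} : Set A))) := by
  rw [← genericResidueMap_eq_locLift]
  exact htame i ⊥ (comap_bot_eq_bot A E)

end Tame

end Groth.Agent.Lib.Helper9.AbhSch
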