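import Mathlib
import Groth.Prelude.Def_FEt
import Groth.Prelude.Def_Pi1
import Groth.Agent.Lib.Helper2.FEtNormalIntegral

/-!
# Finite étale morphisms to an affine scheme, ring-theoretically (helper9)
-/

universe u

open AlgebraicGeometry CategoryTheory

namespace Groth.Agent.Lib.Helper9.AbhSch

section Affine

variable {Y : Scheme.{u}} {R : CommRingCat.{u}} (g : Y ⟶ Spec R)

/-- the ring map `R → Γ(Y, ⊤)` of a morphism `Y → Spec R`. -/
noncomputable def ringMap : R ⟶ Γ(Y, ⊤) := (Scheme.ΓSpecIso R).inv ≫ g.appTop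

theorem isoSpec_inv_comp [IsAffine Y] : Y.isoSpec.inv ≫ g = Spec.map (ringMap g) := by
  rw [← Scheme.isoSpec_inv_naturality, Scheme.isoSpec_Spec_inv, ← Spec.map_comp]
  rfl

theorem isAffine_of_isFinite [IsFinite g] : IsAffine Y := isAffine_of_isAffineHom g

theorem ringMap_finite [IsFinite g] : (ringMap g).hom.Finite := by
  haveI : IsAffine Y := isAffine_of_isFinite g
  rw [← IsFinite.SpecMap_iff, ← isoSpec_inv_comp]
  infer_instance

theorem ringMap_etale [IsFinite g] [Etale g] : (ringMap g).hom.Etale := by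
  haveI : IsAffine Y := isAffine_of_isFinite g
  rw [← HasRingHomProperty.Spec_iff (P := @Etale), ← isoSpec_inv_comp]
  infer_instance

end Affine

section Normal

/-- `Spec` of a normal domain is a normal scheme. -/
theorem isNormalScheme_Spec (B : Type u) [CommRing B] [IsDomain B] [IsIntegrallyClosed B] :
    Pi1.IsNormalScheme (Spec (CommRingCat.of B)) := by
  intro y
  let y' : PrimeSpectrum B := y
  have hy' : y'.asIdeal.IsPrime := y'.2
  have h1 : IsLocalization.AtPrime ((Spec.structureSheaf B).presheaf.stalk y') y'.asIdeal :=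
    StructureSheaf.IsLocalization.to_stalk B y'
  let e : Localization.AtPrime y'.asIdeal ≃ₐ[B] (Spec.structureSheaf B).presheaf.stalk y' :=
    IsLocalization.algEquiv y'.asIdeal.primeCompl _ _
  have hd : IsDomain (Localization.AtPrime y'.asIdeal) :=
    IsLocalization.isDomain_of_le_nonZeroDivisors _ y'.asIdeal.primeCompl_le_nonZeroDivisors
  have hic : IsIntegrallyClosed (Localization.AtPrime y'.asIdeal) :=
    isIntegrallyClosed_of_isLocalization _ y'.asIdeal.primeCompl
      y'.asIdeal.primeCompl_le_nonZeroDivisors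
  have h2 : IsDomain ((Spec.structureSheaf B).presheaf.stalk y') :=
    e.symm.toRingEquiv.toMulEquiv.isDomain (Localization.AtPrime y'.asIdeal)
  have h3 : IsIntegrallyClosed ((Spec.structureSheaf B).presheaf.stalk y') :=
    IsIntegrallyClosed.of_equiv e.toRingEquiv
  exact ⟨h2, h3⟩

theorem isDomain_of_connected {Y : Scheme.{u}} (B : Type u) [CommRing B] [IsDomain B]
    [IsIntegrallyClosed B] (g : Y ⟶ Spec (CommRingCat.of B)) [IsFinite g] [Etale g]
    [ConnectedSpace Y] : IsDomain Γ(Y, ⊤) := by
  haveI : IsIntegral Y :=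
    Groth.Agent.Lib.Helper2.isIntegral_of_connected_of_finite_etale (isNormalScheme_Spec B) g
  infer_instance

end Normal

end Groth.Agent.Lib.Helper9.AbhSch
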