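import Mathlib
import Groth.Prelude.Def_FEt
import Groth.Prelude.Def_SGA1
import Groth.Agent.Lib.Helper9.AbhSch.AffineHom

/-!
# Scheme-level plumbing for covers of a basic open of an affine scheme (helper9)
-/

universe u

open AlgebraicGeometry CategoryTheory

namespace Groth.Agent.Lib.Helper9.AbhSch

section Tower

variable (A : Type u) [CommRing A] (F : A) {Y : Scheme.{u}}
  (g : Y ⟶ ((SGA1.specBasicOpen A F : (Spec (CommRingCat.of A)).Opens) : Scheme.{u}))

/-- `Y → D(F) ≅ Spec A[1/F]`. -/
noncomputable def toAway : Y ⟶ Spec (CommRingCat.of (Localization.Away F)) :=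
  g ≫ (basicOpenIsoSpecAway (R := CommRingCat.of A) F).hom

theorem toAway_comp :
    toAway A F g ≫ Spec.map (CommRingCat.ofHom (algebraMap A (Localization.Away F))) =
      g ≫ (SGA1.specBasicOpen A F).ι := by
  unfold toAway
  rw [Category.assoc]
  congr 1
  exact basicOpenIsoSpecAway_hom_SpecMap (R := CommRingCat.of A) F

theorem ringMap_toAway :
    CommRingCat.ofHom (algebraMap A (Localization.Away F)) ≫ ringMap (toAway A F g) =
      (Scheme.ΓSpecIso (CommRingCat.of A)).inv ≫ (g ≫ (SGA1.specBasicOpen A F).ι).appTop := by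
  rw [← toAway_comp, Scheme.Hom.comp_appTop]
  unfold ringMap
  rw [← Category.assoc, ← Category.assoc, Scheme.ΓSpecIso_inv_naturality]

end Tower

section Lift

variable (A : Type u) [CommRing A] (F : A) (B : Type u) [CommRing B] [Algebra A B]
  {Y : Scheme.{u}} (g : Y ⟶ ((SGA1.specBasicOpen A F : (Spec (CommRingCat.of A)).Opens) : Scheme.{u}))
  [IsAffine Y]
  (ψ : Γ(Y, ⊤) →+* Localization.Away (algebraMap A B F))
  (hψ : ∀ a : A, ψ ((ringMap (toAway A F g)).hom (algebraMap A (Localization.Away F) a)) =
    algebraMap B (Localization.Away (algebraMap A B F)) (algebraMap A B a))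

include hψ in
theorem exists_lift :
    ∃ φ : (↑((Spec.map (CommRingCat.ofHom (algebraMap A B))) ⁻¹ᵁ (SGA1.specBasicOpen A F)) :
        Scheme.{u}) ⟶ Y,
      φ ≫ g = (Spec.map (CommRingCat.ofHom (algebraMap A B))) ∣_ (SGA1.specBasicOpen A F) ∧
      (Function.Surjective (PrimeSpectrum.comap ψ) → Surjective φ) := by
  let e := SpecMapRestrictBasicOpenIso (CommRingCat.ofHom (algebraMap A B)) F
  have hw := e.hom.w
  have hright : e.hom.right = (basicOpenIsoSpecAway (R := CommRingCat.of A) F).hom := rfl
  have hcomp : ringMap (toAway A F g) ≫ CommRingCat.ofHom ψ =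
      CommRingCat.ofHom (Localization.awayMap (algebraMap A B) F) := by
    apply CommRingCat.hom_ext
    apply IsLocalization.ringHom_ext (Submonoid.powers F)
    apply RingHom.ext
    intro a
    have h1 := hψ a
    simp only [CommRingCat.hom_comp, CommRingCat.hom_ofHom, RingHom.comp_apply]
    rw [h1]
    simp [Localization.awayMap, IsLocalization.Away.map]
  refine ⟨e.hom.left ≫ Spec.map (CommRingCat.ofHom ψ) ≫ Y.isoSpec.inv, ?_, ?_⟩
  · refine (cancel_mono (basicOpenIsoSpecAway (R := CommRingCat.of A) F).hom).mp ?_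
    have h3 : (e.hom.left ≫ Spec.map (CommRingCat.ofHom ψ) ≫ Y.isoSpec.inv) ≫ toAway A F g =
        e.hom.left ≫ Spec.map (CommRingCat.ofHom (Localization.awayMap (algebraMap A B) F)) := by
      rw [Category.assoc, Category.assoc, isoSpec_inv_comp, ← Spec.map_comp, hcomp]
    refine (Category.assoc _ _ _).trans ?_
    exact h3.trans hw
  · intro hsurj
    haveI : Surjective (Spec.map (CommRingCat.ofHom ψ)) := ⟨hsurj⟩
    haveI : IsIso e.hom.left := inferInstance
    have h5 : Surjective e.hom.left := inferInstance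
    have h6 : Surjective (Spec.map (CommRingCat.ofHom ψ) ≫ Y.isoSpec.inv) := inferInstance
    exact MorphismProperty.comp_mem (W := @Surjective) _ _ h5 h6

end Lift

end Groth.Agent.Lib.Helper9.AbhSch
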