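import Mathlib

/-!
# From a trivial compositum to a ring map into a localization (helper9)
-/

universe u

namespace Groth.Agent.Lib.Helper9.AbhSch

section Embed

set_option maxHeartbeats 1000000 in
theorem exists_embedding (A : Type u) [CommRing A] (F : A)
    (Aloc : Type u) [CommRing Aloc] [Algebra A Aloc] [IsLocalization.Away F Aloc]
    (E : Type u) [CommRing E] [Algebra A E] [Algebra Aloc E] [IsScalarTower A Aloc E]
    [Algebra.IsIntegral Aloc E]
    (B : Type u) [CommRing B] [IsDomain B] [IsIntegrallyClosed B] [Algebra A B]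
    [Algebra.IsIntegral A B] (hFB : algebraMap A B F ≠ 0)
    (Bloc : Type u) [CommRing Bloc] [Algebra B Bloc] [IsLocalization.Away (algebraMap A B F) Bloc]
    (N : Type u) [Field N] [Algebra B N] [IsFractionRing B N]
    (ι : E →+* N) (hι : ∀ a : A, ι (algebraMap A E a) = algebraMap B N (algebraMap A B a))
    (hιinj : Function.Injective ι) :
    ∃ ψ : E →+* Bloc, (∀ a : A, ψ (algebraMap A E a) = algebraMap B Bloc (algebraMap A B a)) ∧
      Function.Injective ψ ∧ ψ.IsIntegral := by
  classical
  have hu : IsUnit (algebraMap B N (algebraMap A B F)) := by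
    rw [isUnit_iff_ne_zero, Ne, map_eq_zero_iff _ (IsFractionRing.injective B N)]
    exact hFB
  obtain ⟨j, hjdef⟩ : ∃ j : Bloc →+* N,
      j = IsLocalization.Away.lift (algebraMap A B F) (g := algebraMap B N) hu := ⟨_, rfl⟩
  have hj : ∀ b, j (algebraMap B Bloc b) = algebraMap B N b := by
    intro b
    rw [hjdef]
    exact IsLocalization.Away.lift_eq _ hu b
  letI algBlocN : Algebra Bloc N := j.toAlgebra
  haveI : IsScalarTower B Bloc N := IsScalarTower.of_algebraMap_eq (fun b => (hj b).symm)
  have hle : Submonoid.powers (algebraMap A B F) ≤ nonZeroDivisors B :=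
    powers_le_nonZeroDivisors_of_noZeroDivisors hFB
  haveI : IsDomain Bloc :=
    IsLocalization.isDomain_of_le_nonZeroDivisors (M := Submonoid.powers (algebraMap A B F)) Bloc hle
  haveI : IsFractionRing Bloc N :=
    IsFractionRing.isFractionRing_of_isDomain_of_isLocalization
      (Submonoid.powers (algebraMap A B F)) Bloc N
  haveI : IsIntegrallyClosed Bloc :=
    isIntegrallyClosed_of_isLocalization Bloc (Submonoid.powers (algebraMap A B F)) hle
  have hjinj : Function.Injective j := IsFractionRing.injective Bloc N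
  have huγ : IsUnit (((algebraMap B Bloc).comp (algebraMap A B)) F) :=
    IsLocalization.map_units Bloc
      (⟨algebraMap A B F, Submonoid.mem_powers _⟩ : Submonoid.powers (algebraMap A B F))
  obtain ⟨γ, hγdef⟩ : ∃ γ : Aloc →+* Bloc, γ = IsLocalization.Away.lift F
      (g := (algebraMap B Bloc).comp (algebraMap A B)) huγ := ⟨_, rfl⟩
  have hγ : ∀ a, γ (algebraMap A Aloc a) = algebraMap B Bloc (algebraMap A B a) := by
    intro a
    rw [hγdef]
    exact IsLocalization.Away.lift_eq _ huγ a
  have hsq : j.comp γ = ι.comp (algebraMap Aloc E) := by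
    apply IsLocalization.ringHom_ext (Submonoid.powers F)
    apply RingHom.ext
    intro a
    rw [RingHom.comp_apply, RingHom.comp_apply, RingHom.comp_apply, RingHom.comp_apply,
      hγ, hj, ← IsScalarTower.algebraMap_apply A Aloc E, hι]
  have hmem : ∀ e : E, ∃ y : Bloc, j y = ι e := by
    intro e
    obtain ⟨p, hpm, hp⟩ := Algebra.IsIntegral.isIntegral (R := Aloc) e
    have h1 : IsIntegral Bloc (ι e) := by
      refine ⟨p.map γ, hpm.map γ, ?_⟩
      rw [Polynomial.eval₂_map]
      show Polynomial.eval₂ (j.comp γ) (ι e) p = 0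
      rw [hsq, ← Polynomial.hom_eval₂, hp, map_zero]
    exact IsIntegrallyClosed.isIntegral_iff.mp h1
  choose ψ₀ hψ₀ using hmem
  let ψ : E →+* Bloc :=
    { toFun := ψ₀
      map_one' := hjinj (by rw [hψ₀, map_one, map_one])
      map_mul' := fun x y => hjinj (by rw [hψ₀, map_mul, map_mul, hψ₀, hψ₀])
      map_zero' := hjinj (by rw [hψ₀, map_zero, map_zero])
      map_add' := fun x y => hjinj (by rw [hψ₀, map_add, map_add, hψ₀, hψ₀]) }
  have hψ : ∀ e, j (ψ e) = ι e := hψ₀
  have hψγ : ψ.comp (algebraMap Aloc E) = γ := by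
    apply RingHom.ext
    intro a
    apply hjinj
    rw [RingHom.comp_apply, hψ]
    exact (RingHom.congr_fun hsq a).symm
  refine ⟨ψ, fun a => ?_, fun x y hxy => ?_, ?_⟩
  · apply hjinj
    rw [hψ, hι, hj]
  · apply hιinj
    rw [← hψ, ← hψ, hxy]
  · apply RingHom.IsIntegral.tower_top (algebraMap Aloc E) ψ
    rw [hψγ]
    intro z
    obtain ⟨k, b, hz⟩ := IsLocalization.Away.surj (algebraMap A B F) z
    obtain ⟨v, hv⟩ : ∃ v : Aloc, v = IsLocalization.Away.invSelf F := ⟨_, rfl⟩
    have hv1 : algebraMap A Aloc F * v = 1 := by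
      rw [hv]
      exact IsLocalization.Away.mul_invSelf F
    have hv2 : algebraMap B Bloc (algebraMap A B F) * γ v = 1 := by
      rw [← hγ, ← map_mul, hv1, map_one]
    have hzz : z = algebraMap B Bloc b * γ (v ^ k) := by
      rw [← hz, map_pow, mul_assoc, ← mul_pow, hv2, one_pow, mul_one]
    rw [hzz]
    refine RingHom.IsIntegralElem.mul γ ?_ (γ.isIntegralElem_map)
    obtain ⟨p, hpm, hp⟩ := Algebra.IsIntegral.isIntegral (R := A) b
    refine ⟨p.map (algebraMap A Aloc), hpm.map _, ?_⟩
    rw [Polynomial.eval₂_map]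
    have h2 : γ.comp (algebraMap A Aloc) = (algebraMap B Bloc).comp (algebraMap A B) :=
      RingHom.ext hγ
    rw [h2, ← Polynomial.hom_eval₂, hp, map_zero]

end Embed

end Groth.Agent.Lib.Helper9.AbhSch
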