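import Mathlib
import Groth.Prelude.Def_EtRam
import Groth.Prelude.Def_SGA1
import Groth.Agent.Lib.Helper9.AbhSch.GoodOfEtale
import Groth.Agent.Lib.Helper9.AbhSch.ResField
import Groth.Agent.Lib.Helper9.AbhSch.Embed
import Groth.Agent.Lib.Helper9.AbhAbs.Main

/-!
# Ring-level form of "Kummer coverings are cofinal among tame covers" (helper9)
-/

universe u

open IsLocalRing EtRam

namespace Groth.Agent.Lib.Helper9.AbhSch

open Groth.Agent.Lib.Helper9.AbhAbs Groth.Agent.Lib.Helper9.KummerTame

set_option maxHeartbeats 2000000 in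
theorem ring_main (A : Type u) [CommRing A] [IsRegularLocalRing A] [IsDomain A]
    [HenselianLocalRing A] [IsSepClosed (ResidueField A)] {r : ℕ} (f : Fin r → A)
    (hm : ∀ i, f i ∈ maximalIdeal A)
    (hf : LinearIndependent (ResidueField A) (fun i => (maximalIdeal A).toCotangent ⟨f i, hm i⟩))
    [∀ i, (Ideal.span {f i}).IsPrime]
    (Aloc : Type u) [CommRing Aloc] [Algebra A Aloc] [IsLocalization.Away (∏ i, f i) Aloc]
    (E : Type u) [CommRing E] [IsDomain E] [Algebra A E] [Algebra Aloc E] [IsScalarTower A Aloc E]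
    [Module.Finite Aloc E] [Algebra.Etale Aloc E]
    (htame : SGA1.IsTameAlong f (algebraMap A E)) :
    ∃ n : Fin r → ℕ, (∀ i, 1 ≤ n i) ∧ (∀ i, IsUnit ((n i : ℕ) : ResidueField A)) ∧
      ∀ (Bloc : Type u) [CommRing Bloc] [Algebra (SGA1.kummerAlg A f n) Bloc]
        [IsLocalization.Away (algebraMap A (SGA1.kummerAlg A f n) (∏ i, f i)) Bloc],
        ∃ ψ : E →+* Bloc,
          (∀ a : A, ψ (algebraMap A E a) =
            algebraMap (SGA1.kummerAlg A f n) Bloc (algebraMap A (SGA1.kummerAlg A f n) a)) ∧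
          Function.Injective ψ ∧ ψ.IsIntegral := by
  classical
  have hF : (∏ i, f i) ≠ 0 :=
    Finset.prod_ne_zero_iff.mpr (fun i _ => ne_zero_of_linearIndependent f hm hf i)
  letI algAL : Algebra A (⊥ : Ideal E).ResidueField :=
    ((algebraMap E (⊥ : Ideal E).ResidueField).comp (algebraMap A E)).toAlgebra
  haveI : IsScalarTower A E (⊥ : Ideal E).ResidueField :=
    IsScalarTower.of_algebraMap_eq (fun _ => rfl)
  haveI : FaithfulSMul A (⊥ : Ideal E).ResidueField :=
    faithfulSMul_A_L A f hF Aloc E (⊥ : Ideal E).ResidueField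
  have hG : Good A f (⊥ : Ideal E).ResidueField :=
    good_of_etale A f hF Aloc E (⊥ : Ideal E).ResidueField
      (fun i _ => tame_of_isTameAlong A E f htame i)
  obtain ⟨n, hn1, hnu, hT⟩ := theoremI A f hm hf (⊥ : Ideal E).ResidueField hG
  refine ⟨n, hn1, hnu, ?_⟩
  intro Bloc _ _ _
  haveI hreg : IsRegularLocalRing (SGA1.kummerAlg A f n) :=
    isRegularLocalRing_kummer A f hm hf n hn1
  haveI : IsDomain (SGA1.kummerAlg A f n) :=
    Groth.Agent.Lib.Helper85.isDomain_of_isRegularLocalRing _
  haveI : IsIntegrallyClosed (SGA1.kummerAlg A f n) := Groth.Agent.S9829.result _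
  haveI : Algebra.IsIntegral A (SGA1.kummerAlg A f n) := isIntegral_kummer A f n hn1
  have hinjAB : Function.Injective (algebraMap A (SGA1.kummerAlg A f n)) :=
    algebraMap_kummer_injective A f n hn1
  have hFB : algebraMap A (SGA1.kummerAlg A f n) (∏ i, f i) ≠ 0 := by
    rw [Ne, map_eq_zero_iff _ hinjAB]
    exact hF
  letI algKL : Algebra (FractionRing A) (⊥ : Ideal E).ResidueField :=
    FractionRing.liftAlgebra A (⊥ : Ideal E).ResidueField
  haveI : IsScalarTower A (FractionRing A) (⊥ : Ideal E).ResidueField :=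
    FractionRing.isScalarTower_liftAlgebra A _
  haveI : FiniteDimensional (FractionRing A) (⊥ : Ideal E).ResidueField := hG.fin
  haveI : Algebra.IsSeparable (FractionRing A) (⊥ : Ideal E).ResidueField := hG.sep
  haveI : FaithfulSMul A (FractionRing (SGA1.kummerAlg A f n)) :=
    (faithfulSMul_iff_algebraMap_injective A (FractionRing (SGA1.kummerAlg A f n))).mpr (by
      rw [IsScalarTower.algebraMap_eq A (SGA1.kummerAlg A f n)
        (FractionRing (SGA1.kummerAlg A f n))]
      exact (IsFractionRing.injective (SGA1.kummerAlg A f n)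
        (FractionRing (SGA1.kummerAlg A f n))).comp hinjAB)
  letI algKK' : Algebra (FractionRing A) (FractionRing (SGA1.kummerAlg A f n)) :=
    FractionRing.liftAlgebra A (FractionRing (SGA1.kummerAlg A f n))
  haveI : IsScalarTower A (FractionRing A) (FractionRing (SGA1.kummerAlg A f n)) :=
    FractionRing.isScalarTower_liftAlgebra A _
  obtain ⟨N, fN, algN, jK, -, -, hjK, hgenN⟩ :=
    Groth.Agent.Lib.Helper9.TameBC.exists_compositum (FractionRing A)
      (FractionRing (SGA1.kummerAlg A f n)) (⊥ : Ideal E).ResidueField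
  letI algBN : Algebra (SGA1.kummerAlg A f n) N :=
    ((algebraMap (FractionRing (SGA1.kummerAlg A f n)) N).comp
      (algebraMap (SGA1.kummerAlg A f n) (FractionRing (SGA1.kummerAlg A f n)))).toAlgebra
  have hinjBN : Function.Injective (algebraMap (SGA1.kummerAlg A f n) N) :=
    (algebraMap (FractionRing (SGA1.kummerAlg A f n)) N).injective.comp
      (IsFractionRing.injective (SGA1.kummerAlg A f n) (FractionRing (SGA1.kummerAlg A f n)))
  haveI : FaithfulSMul (SGA1.kummerAlg A f n) N :=
    (faithfulSMul_iff_algebraMap_injective _ _).mpr hinjBN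
  have hcompat : ∀ a : A, jK (algebraMap A (⊥ : Ideal E).ResidueField a) =
      algebraMap (SGA1.kummerAlg A f n) N (algebraMap A (SGA1.kummerAlg A f n) a) := by
    intro a
    rw [IsScalarTower.algebraMap_apply A (FractionRing A) (⊥ : Ideal E).ResidueField, hjK,
      ← IsScalarTower.algebraMap_apply A (FractionRing A) (FractionRing (SGA1.kummerAlg A f n)),
      IsScalarTower.algebraMap_apply A (SGA1.kummerAlg A f n)
        (FractionRing (SGA1.kummerAlg A f n))]
    rfl
  have hgen : ∀ E' : Subfield N, Set.range jK ⊆ E' →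
      Set.range (algebraMap (SGA1.kummerAlg A f n) N) ⊆ E' → E' = ⊤ := by
    intro E' h1 h2
    refine hgenN E' ?_ (fun y => h1 ⟨y, rfl⟩)
    intro x
    obtain ⟨a, b, hb, rfl⟩ := IsFractionRing.div_surjective (A := SGA1.kummerAlg A f n) x
    rw [map_div₀]
    exact div_mem (h2 ⟨a, rfl⟩) (h2 ⟨b, rfl⟩)
  have htriv := hT N jK hcompat hgen
  haveI : IsFractionRing (SGA1.kummerAlg A f n) N := by
    apply IsFractionRing.of_field
    intro z
    obtain ⟨a, b, hb, hz⟩ := htriv z
    refine ⟨a, b, ?_⟩
    have hb' : algebraMap (SGA1.kummerAlg A f n) N b ≠ 0 := by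
      rw [Ne, map_eq_zero_iff _ hinjBN]
      exact hb
    rw [eq_div_iff hb', hz]
  haveI : Algebra.IsIntegral Aloc E := Algebra.IsIntegral.of_finite _ _
  refine exists_embedding A (∏ i, f i) Aloc E (SGA1.kummerAlg A f n) hFB Bloc N
    (jK.comp (algebraMap E (⊥ : Ideal E).ResidueField)) (fun a => ?_)
    (jK.injective.comp (algebraMap_botResidueField_injective E))
  rw [RingHom.comp_apply, ← IsScalarTower.algebraMap_apply A E (⊥ : Ideal E).ResidueField, hcompat]

end Groth.Agent.Lib.Helper9.AbhSch
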